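import Mathlib
import Cfsg.Agent.Lib.BrauerInd.Brauer
import Cfsg.Agent.Lib.Chars.Ops

/-!
Coprime factorisation of elements, sums over sections, and the congruence for sums of a
character over the elements of order dividing a Hall divisor.
-/

set_option autoImplicit false

namespace Cfsg.Agent.Lib.BrauerInd

open Representation

universe u

variable {G : Type u} [Group G]

/-- `k` is a projection exponent for the factorisation `|G| = m * n`. -/
structure IsProjExp (G : Type u) [Group G] (m n k : ℕ) : Prop where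
  card_eq : Nat.card G = m * n
  coprime : Nat.Coprime m n
  mod_m : k ≡ 0 [MOD m]
  mod_n : k ≡ 1 [MOD n]

theorem exists_isProjExp [Finite G] {m n : ℕ} (hmn : Nat.card G = m * n) (h : Nat.Coprime m n) :
    ∃ k, IsProjExp G m n k :=
  let ⟨k, hk1, hk2⟩ := Nat.chineseRemainder h 0 1
  ⟨k, hmn, h, hk1, hk2⟩

namespace IsProjExp

variable {m n k : ℕ} (hk : IsProjExp G m n k)

include hk

theorem pow_n [Finite G] (x : G) : (x ^ k) ^ n = 1 := by
  rw [← pow_mul]
  obtain ⟨t, ht⟩ := (Nat.modEq_zero_iff_dvd).1 hk.mod_m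
  rw [ht, mul_comm m t, mul_assoc, ← hk.card_eq, mul_comm, pow_mul, pow_card_eq_one', one_pow]

theorem pow_eq_self {x : G} (hx : x ^ n = 1) : x ^ k = x := by
  have h : k ≡ 1 [MOD orderOf x] := hk.mod_n.of_dvd (orderOf_dvd_of_pow_eq_one hx)
  rw [← pow_mod_orderOf, h, pow_mod_orderOf, pow_one]

theorem pow_eq_one {x : G} (hx : x ^ m = 1) : x ^ k = 1 := by
  have h : k ≡ 0 [MOD orderOf x] := hk.mod_m.of_dvd (orderOf_dvd_of_pow_eq_one hx)
  rw [← pow_mod_orderOf, h, pow_mod_orderOf, pow_zero]

theorem compl_pow_m [Finite G] (x : G) : (x * (x ^ k)⁻¹) ^ m = 1 := by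
  rw [((Commute.refl x).pow_right k).inv_right.mul_pow, inv_pow, ← pow_mul, mul_inv_eq_one]
  refine (pow_eq_pow_iff_modEq).2 (Nat.ModEq.of_dvd (orderOf_dvd_natCard x) ?_)
  rw [hk.card_eq]
  have := Nat.ModEq.mul_left' m hk.mod_n
  rw [mul_one, mul_comm m k] at this
  exact this.symm

theorem mul_pow_eq {u v : G} (hc : Commute u v) (hu : u ^ m = 1) (hv : v ^ n = 1) :
    (u * v) ^ k = v := by
  rw [hc.mul_pow, hk.pow_eq_one hu, hk.pow_eq_self hv, one_mul]

theorem conj_pow (x y : G) : (y * x * y⁻¹) ^ k = y * x ^ k * y⁻¹ := _root_.conj_pow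

theorem coprime_m_of_pow_n [Finite G] {x : G} (hx : x ^ n = 1) : Nat.Coprime (orderOf x) m :=
  hk.coprime.symm.coprime_dvd_left (orderOf_dvd_of_pow_eq_one hx)

theorem pow_n_of_coprime [Finite G] {x : G} (hx : Nat.Coprime (orderOf x) m) : x ^ n = 1 := by
  refine orderOf_dvd_iff_pow_eq_one.1 (hx.dvd_of_dvd_mul_left ?_)
  rw [← hk.card_eq]
  exact orderOf_dvd_natCard x

theorem pow_m_of_coprime [Finite G] {x : G} (hx : Nat.Coprime (orderOf x) n) : x ^ m = 1 := by
  refine orderOf_dvd_iff_pow_eq_one.1 (hx.dvd_of_dvd_mul_right ?_)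
  rw [← hk.card_eq]
  exact orderOf_dvd_natCard x

/-- Averaging identity over the section of `g`. -/
theorem card_centralizer_mul_sum_section [Fintype G] {g : G} (hg : g ^ n = 1)
    (F : G → ℂ) (hF : Cfsg.IsClassFunction G F)
    (S : Finset G) (hS : ∀ x, x ∈ S ↔ IsConj (x ^ k) g)
    (U : Finset (Subgroup.centralizer ({g} : Set G)))
    (hU : ∀ u, u ∈ U ↔ (u : G) ^ m = 1) :
    (Nat.card (Subgroup.centralizer ({g} : Set G)) : ℂ) * ∑ x ∈ S, F x =
      (Nat.card G : ℂ) * ∑ u ∈ U, F ((u : G) * g) := by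
  classical
  let C := Subgroup.centralizer ({g} : Set G)
  have hmaps : ∀ p ∈ (Finset.univ ×ˢ U : Finset (G × C)),
      p.1 * ((p.2 : G) * g) * p.1⁻¹ ∈ S := by
    intro p hp
    rw [hS, hk.conj_pow, hk.mul_pow_eq (Subgroup.mem_centralizer_singleton_iff.1 p.2.2)
      ((hU _).1 (Finset.mem_product.1 hp).2) hg]
    exact (isConj_iff.2 ⟨p.1, rfl⟩).symm
  have h1 : ∑ p ∈ (Finset.univ ×ˢ U : Finset (G × C)), F (p.1 * ((p.2 : G) * g) * p.1⁻¹) =
      (Nat.card G : ℂ) * ∑ u ∈ U, F ((u : G) * g) := by
    rw [Finset.sum_product]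
    simp only [fun (u : C) (y : G) => hF ((u : G) * g) y]
    rw [Finset.sum_const, Finset.card_univ, nsmul_eq_mul, Fintype.card_eq_nat_card]
  rw [← h1, ← Finset.sum_fiberwise_of_maps_to hmaps, Finset.mul_sum]
  refine Finset.sum_congr rfl fun x hx => ?_
  rw [Finset.sum_congr rfl fun p hp => by rw [(Finset.mem_filter.1 hp).2], Finset.sum_const,
    nsmul_eq_mul]
  congr 2
  obtain ⟨c, hc⟩ := isConj_iff.1 ((hS x).1 hx)
  rw [← Fintype.card_coe, ← Nat.card_eq_fintype_card]
  refine Nat.card_congr
    { toFun := fun d => ⟨(c⁻¹ * d, ⟨(c⁻¹ * d)⁻¹ * x * (c⁻¹ * d) * g⁻¹, ?_⟩), ?_⟩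
      invFun := fun p => ⟨c * p.1.1, ?_⟩
      left_inv := fun d => Subtype.ext (mul_inv_cancel_left _ _)
      right_inv := fun p => ?_ }
  · have hgc : ((c⁻¹ * (d : G))⁻¹ * x * (c⁻¹ * (d : G))) ^ k = g := by
      have hd := Subgroup.mem_centralizer_singleton_iff.1 d.2
      rw [show (c⁻¹ * (d : G))⁻¹ * x * (c⁻¹ * (d : G)) =
        (c⁻¹ * (d : G))⁻¹ * x * ((c⁻¹ * (d : G))⁻¹)⁻¹ by rw [inv_inv], hk.conj_pow]
      calc _ = (d : G)⁻¹ * (c * x ^ k * c⁻¹) * d := by group
        _ = g := by rw [hc, mul_assoc, ← hd, inv_mul_cancel_left]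
    set w := (c⁻¹ * (d : G))⁻¹ * x * (c⁻¹ * (d : G))
    rw [Subgroup.mem_centralizer_singleton_iff, ← hgc]
    exact (((Commute.refl w).pow_right k).mul_left (Commute.refl (w ^ k)).inv_left).eq
  · have hgc : ((c⁻¹ * (d : G))⁻¹ * x * (c⁻¹ * (d : G))) ^ k = g := by
      have hd := Subgroup.mem_centralizer_singleton_iff.1 d.2
      rw [show (c⁻¹ * (d : G))⁻¹ * x * (c⁻¹ * (d : G)) =
        (c⁻¹ * (d : G))⁻¹ * x * ((c⁻¹ * (d : G))⁻¹)⁻¹ by rw [inv_inv], hk.conj_pow]
      calc _ = (d : G)⁻¹ * (c * x ^ k * c⁻¹) * d := by group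
        _ = g := by rw [hc, mul_assoc, ← hd, inv_mul_cancel_left]
    refine Finset.mem_filter.2 ⟨Finset.mem_product.2 ⟨Finset.mem_univ _, (hU _).2 ?_⟩, ?_⟩
    · change ((c⁻¹ * (d : G))⁻¹ * x * (c⁻¹ * (d : G)) * g⁻¹) ^ m = 1
      have h1 := hk.compl_pow_m ((c⁻¹ * (d : G))⁻¹ * x * (c⁻¹ * (d : G)))
      rwa [hgc] at h1
    · group
  · obtain ⟨p, hp⟩ := p
    obtain ⟨hp1, hp2⟩ := Finset.mem_filter.1 hp
    rw [Subgroup.mem_centralizer_singleton_iff]
    have h2 : p.1 * g * p.1⁻¹ = x ^ k := by
      rw [← hp2, hk.conj_pow, hk.mul_pow_eq (Subgroup.mem_centralizer_singleton_iff.1 p.2.2)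
        ((hU _).1 (Finset.mem_product.1 hp1).2) hg]
    have h4 : (c * p.1) * g * (c * p.1)⁻¹ = g := by
      conv_rhs => rw [← hc, ← h2]
      group
    exact mul_inv_eq_iff_eq_mul.1 h4
  · obtain ⟨p, hp⟩ := p
    obtain ⟨-, hp2⟩ := Finset.mem_filter.1 hp
    refine Subtype.ext (Prod.ext (inv_mul_cancel_left c p.1) (Subtype.ext ?_))
    change (c⁻¹ * (c * p.1))⁻¹ * x * (c⁻¹ * (c * p.1)) * g⁻¹ = (p.2 : G)
    rw [← hp2]
    group

end IsProjExp

/-- Twisted sums over a subgroup commuting with `g` are divisible by its order. -/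
theorem isIntegral_sum_subgroup_div [Finite G] (S : Subgroup G) [Fintype S] (φ : S →* ℂˣ) (g : G)
    (hg : ∀ u : S, Commute (u : G) g) {χ : G → ℂ} (hχ : Cfsg.IsCharacter G χ) :
    IsIntegral ℤ ((∑ u : S, (φ u : ℂ) * χ ((u : G) * g)) / Nat.card S) := by
  classical
  obtain ⟨d, π, rfl⟩ := hχ
  let P : Module.End ℂ (Fin d → ℂ) := (Nat.card S : ℂ)⁻¹ • ∑ u : S, (φ u : ℂ) • π u
  have hcard : (Nat.card S : ℂ) ≠ 0 := Nat.cast_ne_zero.2 Nat.card_pos.ne'
  have hval : (∑ u : S, (φ u : ℂ) * π.character ((u : G) * g)) / Nat.card S =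
      LinearMap.trace ℂ _ (π g * P) := by
    rw [mul_smul_comm, Finset.mul_sum, map_smul, map_sum, div_eq_inv_mul, smul_eq_mul]
    congr 1
    refine Finset.sum_congr rfl fun u _ => ?_
    rw [mul_smul_comm, map_smul, smul_eq_mul, ← map_mul, (hg u).eq]
    rfl
  have hcomm : P * π g = π g * P := by
    simp only [P, smul_mul_assoc, mul_smul_comm, Finset.sum_mul, Finset.mul_sum, ← map_mul]
    congr 1
    exact Finset.sum_congr rfl fun u _ => by rw [(hg u).eq]
  have habs : ∀ v : S, ((φ v : ℂ) • π v) * P = P := by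
    intro v
    simp only [P, mul_smul_comm, Finset.mul_sum]
    congr 1
    refine Fintype.sum_equiv (Equiv.mulLeft v) _ _ fun u => ?_
    simp [smul_smul, mul_comm]
  have hPP : P * P = P := by
    conv_lhs => arg 1; simp only [P]
    rw [smul_mul_assoc, Finset.sum_mul, Finset.sum_congr rfl fun v _ => habs v, Finset.sum_const,
      Finset.card_univ, ← Nat.cast_smul_eq_nsmul ℂ, smul_smul, ← Nat.card_eq_fintype_card,
      inv_mul_cancel₀ hcard, one_smul]
  let ρg : Representation ℂ (Subgroup.zpowers g) (Fin d → ℂ) := π.comp (Subgroup.zpowers g).subtype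
  let W : Subrepresentation ρg := ⟨LinearMap.range P, by
    rintro ⟨_, i, rfl⟩ _ ⟨v, rfl⟩
    refine ⟨π (g ^ i) v, ?_⟩
    have hc : Commute P (π (g ^ i)) := by
      obtain ⟨j, hj⟩ : ∃ j : ℕ, g ^ j = g ^ i := by
        have := (mem_powers_iff_mem_zpowers.2 (⟨i, rfl⟩ : g ^ i ∈ Subgroup.zpowers g))
        exact this
      rw [← hj, map_pow]
      exact Commute.pow_right hcomm j
    exact LinearMap.congr_fun hc.eq v⟩
  rw [hval]
  let P' : (Fin d → ℂ) →ₗ[ℂ] W.toSubmodule := P.codRestrict _ (fun v => ⟨v, rfl⟩)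
  have h1 : π g * P = (π g ∘ₗ W.toSubmodule.subtype) ∘ₗ P' := rfl
  have h2 : P' ∘ₗ (π g ∘ₗ W.toSubmodule.subtype) =
      W.toRepresentation ⟨g, Subgroup.mem_zpowers g⟩ := by
    refine LinearMap.ext fun x => Subtype.ext ?_
    change P (π g x.1) = π g x.1
    rw [← Module.End.mul_apply, hcomm, Module.End.mul_apply]
    obtain ⟨_, v, rfl⟩ := x
    exact congrArg (π g) (LinearMap.congr_fun hPP v)
  rw [h1, LinearMap.trace_comp_comm', h2]
  exact Chars.char_isIntegral W.toRepresentation _

/-- The sum of `χ (u g)` over `u ^ d = 1` is divisible by the Hall divisor `d`. -/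
theorem isIntegral_sum_pow_div [Fintype G] {d : ℕ} (hd : d ∣ Nat.card G)
    (hcop : Nat.Coprime d (Nat.card G / d)) (g : G) (hg : g ∈ Subgroup.center G)
    {χ : G → ℂ} (hχ : Cfsg.IsCharacter G χ) (U : Finset G) (hU : ∀ u, u ∈ U ↔ u ^ d = 1) :
    IsIntegral ℤ ((∑ u ∈ U, χ (u * g)) / d) := by
  classical
  have hd0 : d ≠ 0 := fun h => Nat.card_pos.ne' (zero_dvd_iff.1 (h ▸ hd))
  set A := ∑ u ∈ U, χ (u * g) with hA
  have hAint : IsIntegral ℤ A := IsIntegral.sum _ fun u _ => Chars.isCharacter_isIntegral hχ _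
  let I : AddSubgroup ℤ :=
    { carrier := {z | IsIntegral ℤ ((z : ℂ) * A / d)}
      zero_mem' := by
        change IsIntegral ℤ _
        simp [isIntegral_zero]
      add_mem' := fun {a b} ha hb => by
        change IsIntegral ℤ _
        rw [Int.cast_add, add_mul, add_div]; exact ha.add hb
      neg_mem' := fun {a} ha => by
        change IsIntegral ℤ _
        rw [Int.cast_neg, neg_mul, neg_div]; exact ha.neg }
  have hone : (1 : ℤ) ∈ I := by
    refine CharExt.one_mem_of_forall_prime I fun p hp => ?_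
    by_cases hpd : p ∣ d
    swap
    · refine ⟨d, ?_, fun h => hpd (Int.natCast_dvd_natCast.1 h)⟩
      change IsIntegral ℤ _
      rw [Int.cast_natCast, mul_comm, mul_div_assoc, div_self (Nat.cast_ne_zero.2 hd0), mul_one]
      exact hAint
    obtain ⟨m₀, hm₀, hmem⟩ := exists_const_mem_linSpan (G := G) hp
    set a := d.factorization p
    set b := d / p ^ a with hb
    have hab : p ^ a * b = d := Nat.ordProj_mul_ordCompl_eq_self d p
    refine ⟨m₀ * b, ?_, fun h => ((Nat.prime_iff_prime_int.1 hp).dvd_or_dvd h).elim hm₀ fun h2 =>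
      Nat.not_dvd_ordCompl hp hd0 (Int.natCast_dvd_natCast.1 h2)⟩
    change IsIntegral ℤ _
    have hgoal : ((m₀ * b : ℤ) : ℂ) * A / d = (m₀ : ℂ) * A / (p ^ a : ℕ) := by
      have hb0 : (b : ℂ) ≠ 0 := Nat.cast_ne_zero.2 (fun h => hd0 (by rw [← hab, h, mul_zero]))
      have hp0 : ((p ^ a : ℕ) : ℂ) ≠ 0 := Nat.cast_ne_zero.2 (pow_ne_zero _ hp.ne_zero)
      rw [← hab, Nat.cast_mul, Int.cast_mul, Int.cast_natCast]
      field_simp
    rw [hgoal]
    have key : ∀ f ∈ linSpan (G := G) (fun q => q = p),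
        IsIntegral ℤ ((∑ u ∈ U, f u * χ (u * g)) / ((p ^ a : ℕ) : ℂ)) := by
      intro f hf
      induction hf using AddSubgroup.closure_induction with
      | mem x hx =>
        obtain ⟨E, φ, ⟨q, rfl, hel⟩, rfl⟩ := hx
        obtain ⟨x, hxE, hxc, hxcop, j, hj⟩ := exists_data_of_isElementary hel
        have hnil : ∀ e : E, ∀ e' : E, (e : G) ^ d = 1 → (e' : G) ^ d = 1 →
            ((e : G) * e') ^ d = 1 := by
          -- `e ↦ e ^ (q ^ j)` is a homomorphism into the central subgroup `⟨x⟩`
          intro e e' he he'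
          let Z : Subgroup E := (Subgroup.zpowers x).subgroupOf E
          have hZc : ∀ z ∈ Z, ∀ w : E, z * w = w * z := by
            intro z hz w
            obtain ⟨i, hi⟩ := Subgroup.mem_subgroupOf.1 hz
            refine Subtype.ext ?_
            rw [Subgroup.coe_mul, Subgroup.coe_mul, show (z : G) = x ^ i from hi.symm]
            exact ((Commute.zpow_right (hxc w w.2) i).eq).symm
          let : CommGroup Z :=
            { (inferInstance : Group Z) with mul_comm := fun a b => Subtype.ext (hZc a a.2 b) }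
          have hkey : ∀ (w : E) (i : ℕ) (w₀ : E), w₀⁻¹ * w ^ i * w₀ ∈ Z →
              w₀⁻¹ * w ^ i * w₀ = w ^ i := by
            intro w i w₀ hw
            have h1 := hZc _ hw w₀⁻¹
            rw [← mul_right_inj w₀⁻¹, ← h1]
            group
          let t : E →* Z := MonoidHom.transfer (MonoidHom.id Z)
          have ht : ∀ w : E, ((t w : Z) : E) = w ^ (q ^ j) := fun w => by
            rw [← hj]
            exact congrArg Subtype.val (MonoidHom.transfer_eq_pow (MonoidHom.id Z) w (hkey w))
          have h2 : (e * e') ^ (q ^ j) = e ^ (q ^ j) * e' ^ (q ^ j) := by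
            rw [← ht, ← ht, ← ht, map_mul, Subgroup.coe_mul]
          have hqd : q ^ a ∣ d := Nat.ordProj_dvd d q
          have hcardE : q ^ j ∣ Nat.card G := by
            rw [← hj]
            exact ((Subgroup.zpowers x).subgroupOf E).index_dvd_card.trans E.card_subgroup_dvd_card
          have hjd : q ^ j ∣ d := by
            refine Nat.Coprime.dvd_of_dvd_mul_right ?_ (?_ : q ^ j ∣ d * (Nat.card G / d))
            · exact (hcop.coprime_dvd_left hpd).pow_left j
            · rwa [Nat.mul_div_cancel' hd]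
          obtain ⟨s, hs⟩ := hjd
          have h3 := congrArg (fun w : E => (w : G) ^ s) h2
          simp only [Subgroup.coe_pow, Subgroup.coe_mul] at h3
          have hcm : Commute ((e : G) ^ (q ^ j)) ((e' : G) ^ (q ^ j)) := by
            have h4 := congrArg (fun w : E => (w : G)) (hZc _ (t e).2 (t e' : E))
            simp only [Subgroup.coe_mul, ht, Subgroup.coe_pow] at h4
            exact h4
          rw [hcm.mul_pow, ← pow_mul, ← pow_mul, ← pow_mul, ← hs, he, he', one_mul] at h3
          exact h3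
        let S : Subgroup G :=
          { carrier := {e | e ∈ E ∧ e ^ d = 1}
            one_mem' := ⟨one_mem E, one_pow d⟩
            mul_mem' := fun {u v} hu hv =>
              ⟨mul_mem hu.1 hv.1, hnil ⟨u, hu.1⟩ ⟨v, hv.1⟩ hu.2 hv.2⟩
            inv_mem' := fun {u} hu => ⟨inv_mem hu.1, by rw [inv_pow, hu.2, inv_one]⟩ }
        have hSE : S ≤ E := fun u hu => hu.1
        let := Fintype.ofFinite S
        let := Fintype.ofFinite E
        have hmain : ∑ u ∈ U, Cfsg.indFun E (fun e => (φ e : ℂ)) u * χ (u * g) =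
            (E.index : ℂ) * ∑ s : S, ((φ.comp (Subgroup.inclusion hSE)) s : ℂ) *
              χ ((s : G) * g) := by
          have hW : Cfsg.IsClassFunction G (fun u => if u ^ d = 1 then χ (u * g) else 0) := by
            intro u y
            have h1 : (y * u * y⁻¹) ^ d = 1 ↔ u ^ d = 1 := by
              rw [_root_.conj_pow, conj_eq_one_iff]
            have h2 : χ (y * u * y⁻¹ * g) = χ (u * g) := by
              have := Chars.isClassFunction_of_isCharacter hχ (u * g) y
              rw [← this]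
              congr 1
              simp only [mul_assoc]
              rw [← (Subgroup.mem_center_iff.1 hg y⁻¹)]
            simp only [h1, h2]
          have hUfil : U = Finset.univ.filter fun u => u ^ d = 1 := by ext u; simp [hU]
          rw [hUfil, Finset.sum_filter]
          set W := fun u : G => if u ^ d = 1 then χ (u * g) else 0
          have h3 : ∀ u : G, (if u ^ d = 1 then Cfsg.indFun E (fun e => (φ e : ℂ)) u * χ (u * g)
              else 0) = W u * Cfsg.indFun E (fun e => (φ e : ℂ)) u := fun u => by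
            simp only [W]; split_ifs <;> ring
          rw [Finset.sum_congr rfl fun u _ => h3 u]
          have h4 := congrArg (fun f => ∑ u : G, f u)
            (mul_indFun E W hW (fun e => (φ e : ℂ)))
          simp only [Pi.mul_apply] at h4
          rw [h4]
          have h5 : ∀ θ : E → ℂ, ∑ u : G, Cfsg.indFun E θ u = (E.index : ℂ) * ∑ e : E, θ e := by
            intro θ
            simp only [Cfsg.indFun, ← Finset.mul_sum]
            rw [Finset.sum_comm]
            have h6 : ∀ y : G, ∑ u : G, Cfsg.extendByZero E θ (y⁻¹ * u * y) = ∑ e : E, θ e := by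
              intro y
              rw [← Chars.sum_extendByZero E θ]
              refine Fintype.sum_equiv (MulAut.conj y⁻¹).toEquiv _ _ fun u => ?_
              simp
            rw [Finset.sum_congr rfl fun y _ => h6 y, Finset.sum_const, Finset.card_univ,
              nsmul_eq_mul, Fintype.card_eq_nat_card, ← E.card_mul_index, Nat.cast_mul,
              ← mul_assoc, ← mul_assoc, inv_mul_cancel₀ (Nat.cast_ne_zero.2 Nat.card_pos.ne'),
              one_mul]
          rw [h5]
          congr 1
          simp only [W, ite_mul, zero_mul]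
          rw [← Finset.sum_filter]
          refine Finset.sum_bij' (fun e he => (⟨e, e.2, (Finset.mem_filter.1 he).2⟩ : S))
            (fun s _ => (⟨s, s.2.1⟩ : E)) ?_ ?_ ?_ ?_ ?_
          · intros; exact Finset.mem_univ _
          · intro s _; exact Finset.mem_filter.2 ⟨Finset.mem_univ _, s.2.2⟩
          · intros; rfl
          · intros; rfl
          · intro e he; exact mul_comm _ _
        rw [hmain]
        obtain ⟨r, hr⟩ : q ^ a ∣ E.index * Nat.card S := by
          have hE0 : Nat.card E ≠ 0 := Nat.card_pos.ne'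
          have hSdvd : q ^ ((Nat.card E).factorization q) ∣ Nat.card S := by
            have := Fact.mk hp
            obtain ⟨Q, hQ⟩ := Sylow.exists_subgroup_card_pow_prime (G := E) q
              (Nat.ordProj_dvd (Nat.card E) q)
            have hQd : q ^ ((Nat.card E).factorization q) ∣ d := by
              refine Nat.Coprime.dvd_of_dvd_mul_right ?_ (?_ : _ ∣ d * (Nat.card G / d))
              · exact (hcop.coprime_dvd_left hpd).pow_left _
              · rw [Nat.mul_div_cancel' hd]
                exact (Nat.ordProj_dvd _ q).trans E.card_subgroup_dvd_card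
            have hle : Q.map E.subtype ≤ S := by
              rintro _ ⟨e, he, rfl⟩
              refine ⟨e.2, ?_⟩
              have h1 : (⟨e, he⟩ : Q) ^ d = 1 := by
                obtain ⟨t, ht⟩ := hQd
                rw [ht, ← hQ, pow_mul, pow_card_eq_one', one_pow]
              simpa using congrArg (fun w : Q => ((w : E) : G)) h1
            have h2 := Subgroup.card_dvd_of_le hle
            rwa [← Nat.card_congr (Q.equivMapOfInjective _ E.subtype_injective).toEquiv, hQ] at h2
          have hsplit : a ≤ E.index.factorization q + (Nat.card E).factorization q := by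
            rw [← Finsupp.add_apply, ← Nat.factorization_mul Subgroup.index_ne_zero_of_finite hE0,
              mul_comm E.index, E.card_mul_index]
            exact (Nat.factorization_le_iff_dvd hd0 Nat.card_pos.ne').2 hd q
          refine (pow_dvd_pow q hsplit).trans ?_
          rw [pow_add]
          exact mul_dvd_mul (Nat.ordProj_dvd _ q) hSdvd
        have hI := isIntegral_sum_subgroup_div S (φ.comp (Subgroup.inclusion hSE)) g
          (fun u => Subgroup.mem_center_iff.1 hg u) hχ
        set Ssum := ∑ s : S, ((φ.comp (Subgroup.inclusion hSE)) s : ℂ) * χ ((s : G) * g)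
        have heq : (E.index : ℂ) * Ssum / ((q ^ a : ℕ) : ℂ) = (r : ℂ) * (Ssum / Nat.card S) := by
          have hq0 : ((q ^ a : ℕ) : ℂ) ≠ 0 := Nat.cast_ne_zero.2 (pow_ne_zero _ hp.ne_zero)
          have hS0 : (Nat.card S : ℂ) ≠ 0 := Nat.cast_ne_zero.2 Nat.card_pos.ne'
          have hr' : (E.index : ℂ) * Nat.card S = ((q ^ a : ℕ) : ℂ) * r := by exact_mod_cast hr
          field_simp
          linear_combination Ssum * hr'
        rw [heq]
        exact (isIntegral_algebraMap (R := ℤ) (x := (r : ℤ))).mul hI |> fun h => by simpa using h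
      | zero => simp [isIntegral_zero]
      | add u v _ _ h1 h2 =>
        simp only [Pi.add_apply, add_mul, Finset.sum_add_distrib, add_div]
        exact h1.add h2
      | neg u _ h1 =>
        simp only [Pi.neg_apply, neg_mul, Finset.sum_neg_distrib, neg_div]
        exact h1.neg
    have h := key _ hmem
    rw [← Finset.mul_sum, ← hA] at h
    exact h
  have : IsIntegral ℤ (((1 : ℤ) : ℂ) * A / d) := hone
  rwa [Int.cast_one, one_mul] at this

end Cfsg.Agent.Lib.BrauerInd
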