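import Mathlib
import Cfsg.Agent.Lib.BrauerInd.SectionSum
import Cfsg.Agent.Lib.BrauerInd.Nilpotent

/-!
The Brauer–Suzuki normal complement theorem.
-/

set_option autoImplicit false

namespace Cfsg.Agent.Lib.BrauerInd

open scoped ComplexConjugate

universe u

variable {G : Type u} [Group G]

theorem exists_conj_mem_hall [Finite G] (H : Subgroup G)
    (helem : ∀ (E : Subgroup G) (p : ℕ), p.Prime → Cfsg.IsElementary p E →
      Nat.card E ∣ Nat.card H → ∃ g : G, E.map (MulAut.conj g).toMonoidHom ≤ H)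
    (y : G) (hy : y ^ Nat.card H = 1) : ∃ h ∈ H, IsConj y h := by
  obtain ⟨p, hpl, hp⟩ := Nat.exists_infinite_primes (orderOf y + 1)
  have hE : Cfsg.IsElementary p (Subgroup.zpowers y) := by
    refine isElementary_of_subgroup p _ y (Subgroup.mem_zpowers y) ?_ ?_ 0 ?_
    · rintro e ⟨i, rfl⟩
      exact ((Commute.refl y).zpow_left i).eq
    · exact ((hp.coprime_iff_not_dvd).2 fun h => by
        have := Nat.le_of_dvd (orderOf_pos y) h; omega).symm
    · simp
  obtain ⟨g, hg⟩ := helem _ p hp hE (by rw [Nat.card_zpowers]; exact orderOf_dvd_of_pow_eq_one hy)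
  exact ⟨_, hg (Subgroup.mem_map_of_mem _ (Subgroup.mem_zpowers y)), isConj_iff.2 ⟨g, rfl⟩⟩

/-- The `π`-part of the centralizer order of `y ∈ H` is attained inside `H`. -/
theorem card_centralizer_inf_eq_gcd [Finite G] (H : Subgroup G)
    (hHall : Nat.Coprime (Nat.card H) H.index)
    (hfus : ∀ x ∈ H, ∀ y ∈ H, IsConj x y → ∃ h ∈ H, h * x * h⁻¹ = y)
    (helem : ∀ (E : Subgroup G) (p : ℕ), p.Prime → Cfsg.IsElementary p E →
      Nat.card E ∣ Nat.card H → ∃ g : G, E.map (MulAut.conj g).toMonoidHom ≤ H)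
    {y : G} (hy : y ∈ H) :
    Nat.card ↥(Subgroup.centralizer ({y} : Set G) ⊓ H) =
      Nat.gcd (Nat.card (Subgroup.centralizer ({y} : Set G))) (Nat.card H) := by
  set C := Subgroup.centralizer ({y} : Set G)
  have hdvd : Nat.card ↥(C ⊓ H) ∣ Nat.gcd (Nat.card C) (Nat.card H) :=
    Nat.dvd_gcd (Subgroup.card_dvd_of_le inf_le_left) (Subgroup.card_dvd_of_le inf_le_right)
  refine Nat.dvd_antisymm hdvd ?_
  refine (Nat.dvd_iff_prime_pow_dvd_dvd _ _).2 fun p b hp hb => ?_
  have := Fact.mk hp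
  obtain ⟨hbC, hbH⟩ := Nat.dvd_gcd_iff.1 hb
  rcases Nat.eq_zero_or_pos b with rfl | hbpos
  · simp
  have hpn : p ∣ Nat.card H := (dvd_pow_self p hbpos.ne').trans hbH
  obtain ⟨u, v, huv, hcomm, hvy, huy, ⟨a, ha⟩, hv⟩ := exists_pPart_mul y hp
  obtain ⟨P⟩ := (inferInstance : Nonempty (Sylow p C))
  have hyC : y ∈ C := Subgroup.mem_centralizer_singleton_iff.2 rfl
  have hpw : ∀ w ∈ Subgroup.zpowers y, ∀ c ∈ C, c * w = w * c := by
    rintro _ ⟨i, rfl⟩ c hc
    exact ((show Commute c y from Subgroup.mem_centralizer_singleton_iff.1 hc).zpow_right i).eq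
  let u' : C := ⟨u, Subgroup.zpowers_le.2 hyC huy⟩
  have hu'n : (Subgroup.zpowers u').Normal := ⟨by
    rintro _ ⟨i, rfl⟩ c
    refine ⟨i, Subtype.ext ?_⟩
    push_cast
    rw [hpw (u ^ i) (zpow_mem huy i) c c.2, mul_inv_cancel_right]⟩
  have hu'p : IsPGroup p (Subgroup.zpowers u') := by
    rintro ⟨w, i, rfl⟩
    refine ⟨a, Subtype.ext (Subtype.ext ?_)⟩
    push_cast
    rw [← zpow_natCast, ← zpow_mul, mul_comm, zpow_mul, zpow_natCast, ha, one_zpow]
  let Q : Subgroup G := ((P : Subgroup C) ⊔ Subgroup.zpowers u').map C.subtype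
  have hQp : IsPGroup p Q := (IsPGroup.to_sup_of_normal_right P.2 hu'p).map _
  have hQC : Q ≤ C := Subgroup.map_subtype_le _
  have hbQ : p ^ b ∣ Nat.card Q := by
    refine dvd_trans ?_ (Subgroup.card_dvd_of_le
      (Subgroup.map_mono (f := C.subtype) le_sup_left : (P : Subgroup C).map C.subtype ≤ Q))
    rw [← Nat.card_congr ((P : Subgroup C).equivMapOfInjective _ C.subtype_injective).toEquiv,
      P.card_eq_multiplicity]
    exact pow_dvd_pow p ((hp.pow_dvd_iff_le_factorization Nat.card_pos.ne').1 hbC)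
  have hvC : v ∈ C := Subgroup.zpowers_le.2 hyC hvy
  let E := Q ⊔ Subgroup.zpowers v
  have hEC : E ≤ C := sup_le hQC (Subgroup.zpowers_le.2 hvC)
  obtain ⟨jQ, hjQ⟩ := hQp.exists_card_eq
  have hnorm : ((Subgroup.zpowers v).subgroupOf E).Normal := ⟨by
    intro w hw e
    rw [Subgroup.mem_subgroupOf] at hw ⊢
    obtain ⟨i, hi⟩ := hw
    refine ⟨i, ?_⟩
    push_cast
    rw [show (w : G) = v ^ i from hi.symm, hpw (v ^ i) (zpow_mem hvy i) (e : G) (hEC e.2),
      mul_inv_cancel_right]⟩
  have hrel : (Subgroup.zpowers v).relIndex E ∣ p ^ jQ := by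
    rw [← hjQ]
    have hsup : (Subgroup.zpowers v).subgroupOf E ⊔ Q.subgroupOf E = ⊤ := by
      rw [← Subgroup.subgroupOf_sup le_sup_right le_sup_left, sup_comm, Subgroup.subgroupOf_self]
    refine dvd_trans (dvd_of_eq ?_) (Subgroup.relIndex_dvd_card (Subgroup.zpowers v) Q)
    rw [← Subgroup.relIndex_subgroupOf (le_sup_left : Q ≤ E), Subgroup.relIndex,
      ← Subgroup.relIndex_top_right, ← hsup, Subgroup.relIndex_sup_left]
  obtain ⟨j, -, hj⟩ := (Nat.dvd_prime_pow hp).1 hrel
  have hEelem : Cfsg.IsElementary p E := by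
    refine isElementary_of_subgroup p E v (Subgroup.mem_sup_right (Subgroup.mem_zpowers v))
      (fun e he => hpw v hvy e (hEC he)) hv j hj
  have hEcard : Nat.card E ∣ Nat.card H := by
    have h1 : Nat.card E = orderOf v * p ^ j := by
      rw [← Subgroup.card_mul_index ((Subgroup.zpowers v).subgroupOf E),
        Nat.card_congr (Subgroup.subgroupOfEquivOfLe (le_sup_right : Subgroup.zpowers v ≤ E)).toEquiv,
        Nat.card_zpowers, ← Subgroup.relIndex, hj]
    rw [h1]
    refine Nat.Coprime.mul_dvd_of_dvd_of_dvd (hv.pow_right j) ?_ ?_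
    · rw [← Nat.card_zpowers]
      exact Subgroup.card_dvd_of_le (Subgroup.zpowers_le.2 (Subgroup.zpowers_le.2 hy hvy))
    · refine Nat.Coprime.dvd_of_dvd_mul_right ((hHall.coprime_dvd_left hpn).pow_left j) ?_
      rw [Subgroup.card_mul_index]
      exact (Dvd.intro_left (orderOf v) h1.symm).trans E.card_subgroup_dvd_card
  obtain ⟨g, hg⟩ := helem E p hp hEelem hEcard
  have hyE : y ∈ E := by
    rw [huv]
    exact mul_mem (Subgroup.mem_sup_left ⟨u', Subgroup.mem_sup_right (Subgroup.mem_zpowers u'), rfl⟩)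
      (Subgroup.mem_sup_right (Subgroup.mem_zpowers v))
  have hgy : g * y * g⁻¹ ∈ H := hg (Subgroup.mem_map_of_mem _ hyE)
  obtain ⟨h, hh, hhy⟩ := hfus _ hgy _ hy (isConj_iff.2 ⟨g⁻¹, by group⟩)
  refine hbQ.trans ?_
  have hle : Q.map (MulAut.conj (h * g)).toMonoidHom ≤ C ⊓ H := by
    rintro _ ⟨q, hq, rfl⟩
    simp only [MulEquiv.coe_toMonoidHom, MulAut.conj_apply]
    refine ⟨?_, ?_⟩
    · apply Subgroup.mem_centralizer_singleton_iff.2
      have hqy : Commute q y := Subgroup.mem_centralizer_singleton_iff.1 (hQC hq)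
      have h1 := hqy.map (MulAut.conj (h * g)).toMonoidHom
      simp only [MulEquiv.coe_toMonoidHom, MulAut.conj_apply] at h1
      rw [show h * g * y * (h * g)⁻¹ = y by conv_rhs => rw [← hhy]
                                            group] at h1
      exact h1.eq
    · have := hg (Subgroup.mem_map_of_mem _ (Subgroup.mem_sup_left hq : q ∈ E))
      simp only [MulEquiv.coe_toMonoidHom, MulAut.conj_apply] at this
      change h * g * q * (h * g)⁻¹ ∈ H
      rw [show h * g * q * (h * g)⁻¹ = h * (g * q * g⁻¹) * h⁻¹ by group]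
      exact mul_mem (mul_mem hh this) (inv_mem hh)
  refine dvd_trans (dvd_of_eq ?_) (Subgroup.card_dvd_of_le hle)
  exact Nat.card_congr (Q.equivMapOfInjective _ (MulAut.conj (h * g)).injective).toEquiv

/-- The power map to the `π`-part is a homomorphism on elementary subgroups. -/
theorem exists_powHom_of_isElementary [Finite G] {m n k : ℕ} (hk : IsProjExp G m n k)
    {p : ℕ} (hp : p.Prime) (E : Subgroup G) (hE : Cfsg.IsElementary p E) :
    ∃ f : E →* E, ∀ e : E, f e = e ^ k := by
  obtain ⟨x, hxE, hxc, hxcop, j, hj⟩ := exists_data_of_isElementary hE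
  let Z : Subgroup E := (Subgroup.zpowers x).subgroupOf E
  have hZc : ∀ z ∈ Z, ∀ w : E, z * w = w * z := by
    intro z hz w
    obtain ⟨i, hi⟩ := Subgroup.mem_subgroupOf.1 hz
    refine Subtype.ext ?_
    rw [Subgroup.coe_mul, Subgroup.coe_mul, show (z : G) = x ^ i from hi.symm]
    exact ((Commute.zpow_right (hxc w w.2) i).eq).symm
  let : CommGroup Z :=
    { (inferInstance : Group Z) with mul_comm := fun a b => Subtype.ext (hZc a a.2 b) }
  have hkey : ∀ (w : E) (i : ℕ) (w₀ : E), w₀⁻¹ * w ^ i * w₀ ∈ Z →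
      w₀⁻¹ * w ^ i * w₀ = w ^ i := by
    intro w i w₀ hw
    have h1 := hZc _ hw w₀⁻¹
    rw [← mul_right_inj w₀⁻¹, ← h1]
    group
  let t : E →* Z := MonoidHom.transfer (MonoidHom.id Z)
  have ht : ∀ w : E, ((t w : Z) : E) = w ^ (p ^ j) := fun w => by
    rw [← hj]
    exact congrArg Subtype.val (MonoidHom.transfer_eq_pow (MonoidHom.id Z) w (hkey w))
  have hord : ∀ e : E, orderOf e ∣ m * n := fun e => by
    rw [← hk.card_eq, ← Subgroup.orderOf_coe]; exact orderOf_dvd_natCard _
  have hpow : ∀ {a b : ℕ}, a ≡ b [MOD m * n] → ∀ e : E, e ^ a = e ^ b := fun hab e =>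
    pow_eq_pow_iff_modEq.2 (hab.of_dvd (hord e))
  by_cases hpn : p ∣ n
  · have hcop : Nat.Coprime (p ^ j) m :=
      (hk.coprime.symm.coprime_dvd_left hpn).pow_left j
    obtain ⟨s, hs⟩ : ∃ s, p ^ j * s ≡ 1 [MOD m] := by
      rcases Nat.lt_or_ge 1 m with h1 | h1
      · obtain ⟨s, -, hs⟩ := Nat.exists_mul_mod_eq_one_of_coprime hcop h1
        exact ⟨s, by rw [Nat.ModEq, hs, Nat.one_mod_eq_one.2 h1.ne']⟩
      · refine ⟨0, ?_⟩
        have h0 : m * n ≠ 0 := hk.card_eq ▸ Nat.card_pos.ne'
        obtain rfl : m = 1 := le_antisymm h1 (Nat.pos_of_ne_zero (left_ne_zero_of_mul h0))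
        exact Nat.modEq_one
    let l := s * (k + (m * n - 1))
    refine ⟨MonoidHom.mk' (fun e => e * ((t e : Z) : E) ^ l) fun a b => ?_, fun e => ?_⟩
    · rw [map_mul, Subgroup.coe_mul, (show Commute ((t a : Z) : E) ((t b : Z) : E) from
        hZc _ (t a).2 _).mul_pow]
      have := hZc _ (Z.pow_mem (t a).2 l) b
      simp only [mul_assoc]
      rw [← mul_assoc b, ← this, mul_assoc]
    · change e * ((t e : Z) : E) ^ l = e ^ k
      rw [ht, ← pow_mul, ← pow_succ']
      refine hpow ?_ e
      have hmn : 0 < m * n := hk.card_eq ▸ Nat.card_pos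
      have hl : k + (m * n - 1) + 1 ≡ k [MOD m * n] := by
        rw [show k + (m * n - 1) + 1 = k + m * n by omega]
        exact Nat.add_modEq_right
      rw [← Nat.modEq_and_modEq_iff_modEq_mul hk.coprime]
      refine ⟨?_, ?_⟩
      · have h1 : p ^ j * l ≡ 1 * (k + (m * n - 1)) [MOD m] := by
          rw [← mul_assoc]; exact hs.mul_right _
        rw [one_mul] at h1
        exact (h1.add_right 1).trans (hl.of_dvd (dvd_mul_right m n))
      · have h2 : k + (m * n - 1) ≡ 0 [MOD n] := by
          have h3 : k + (m * n - 1) + 1 ≡ 0 + 1 [MOD n] := by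
            rw [zero_add]
            exact (hl.of_dvd (dvd_mul_left n m)).trans hk.mod_n
          exact Nat.ModEq.add_right_cancel' 1 h3
        have h4 : p ^ j * l ≡ 0 [MOD n] := by
          have := (h2.mul_left (p ^ j * s))
          rw [mul_zero, mul_assoc] at this
          exact this
        exact (h4.add_right 1).trans (by rw [zero_add]; exact hk.mod_n.symm)
  · have hcop : Nat.Coprime (p ^ j) n := ((hp.coprime_iff_not_dvd).2 hpn).pow_left j
    obtain ⟨s, hs⟩ : ∃ s, p ^ j * s ≡ 1 [MOD n] := by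
      rcases Nat.lt_or_ge 1 n with h1 | h1
      · obtain ⟨s, -, hs⟩ := Nat.exists_mul_mod_eq_one_of_coprime hcop h1
        exact ⟨s, by rw [Nat.ModEq, hs, Nat.one_mod_eq_one.2 h1.ne']⟩
      · refine ⟨0, ?_⟩
        have h0 : m * n ≠ 0 := hk.card_eq ▸ Nat.card_pos.ne'
        obtain rfl : n = 1 := le_antisymm h1 (Nat.pos_of_ne_zero (right_ne_zero_of_mul h0))
        exact Nat.modEq_one
    refine ⟨MonoidHom.mk' (fun e => ((t e : Z) : E) ^ (s * k)) fun a b => ?_, fun e => ?_⟩
    · rw [map_mul, Subgroup.coe_mul, (show Commute ((t a : Z) : E) ((t b : Z) : E) from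
        hZc _ (t a).2 _).mul_pow]
    · change ((t e : Z) : E) ^ (s * k) = e ^ k
      rw [ht, ← pow_mul]
      refine hpow ?_ e
      rw [← mul_assoc, ← Nat.modEq_and_modEq_iff_modEq_mul hk.coprime]
      refine ⟨?_, ?_⟩
      · have h1 := hk.mod_m.mul_left (p ^ j * s)
        rw [mul_zero] at h1
        exact h1.trans hk.mod_m.symm
      · have := hs.mul_right k
        rwa [one_mul] at this

/-- The Brauer–Suzuki theorem. -/
theorem brauer_suzuki_complement [Finite G] (H : Subgroup G)
    (hHall : Nat.Coprime (Nat.card H) H.index)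
    (hfus : ∀ x ∈ H, ∀ y ∈ H, IsConj x y → ∃ h ∈ H, h * x * h⁻¹ = y)
    (helem : ∀ (E : Subgroup G) (p : ℕ), p.Prime → Cfsg.IsElementary p E →
      Nat.card E ∣ Nat.card H → ∃ g : G, E.map (MulAut.conj g).toMonoidHom ≤ H) :
    ∃ K : Subgroup G, K.Normal ∧ K ⊔ H = ⊤ ∧ K ⊓ H = ⊥ := by
  classical
  cases nonempty_fintype G
  let := Fintype.ofFinite H
  obtain ⟨k, hk⟩ := exists_isProjExp (G := G) (m := H.index) (n := Nat.card H)
    (by rw [mul_comm, H.card_mul_index]) hHall.symm
  set n := Nat.card H with hndef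
  set m := H.index with hmdef
  have hyn : ∀ y ∈ H, y ^ n = 1 := fun y hy =>
    orderOf_dvd_iff_pow_eq_one.1 (by rw [← Subgroup.orderOf_mk y hy]; exact orderOf_dvd_natCard _)
  have hex : ∀ x : G, ∃ y : H, IsConj (x ^ k) (y : G) := fun x => by
    obtain ⟨y, hy, hc⟩ := exists_conj_mem_hall H helem (x ^ k) (hk.pow_n x)
    exact ⟨⟨y, hy⟩, hc⟩
  choose hh hhh using hex
  have hHconj : ∀ (y : H) (x : G), IsConj (x ^ k) (y : G) → IsConj (hh x) y := by
    intro y x h
    obtain ⟨a, ha, hay⟩ := hfus _ (hh x).2 _ y.2 ((hhh x).symm.trans h)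
    exact isConj_iff.2 ⟨⟨a, ha⟩, Subtype.ext hay⟩
  -- sections
  let S : H → Finset G := fun y => Finset.univ.filter fun x => IsConj (x ^ k) (y : G)
  let cH : H → ℕ := fun y => (Finset.univ.filter fun a : H => a * y * a⁻¹ = y).card
  have hcH : ∀ y : H, Nat.card ↥(Subgroup.centralizer ({(y : G)} : Set G) ⊓ H) = cH y := by
    intro y
    simp only [cH]
    rw [← Fintype.card_subtype, ← Nat.card_eq_fintype_card]
    refine Nat.card_congr
      { toFun := fun a => ⟨⟨a.1, a.2.2⟩, ?_⟩
        invFun := fun a => ⟨a.1.1, ?_, a.1.2⟩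
        left_inv := fun a => rfl
        right_inv := fun a => rfl }
    · refine Subtype.ext ?_
      push_cast
      rw [Subgroup.mem_centralizer_singleton_iff.1 a.2.1, mul_inv_cancel_right]
    · apply Subgroup.mem_centralizer_singleton_iff.2
      have := congrArg Subtype.val a.2
      push_cast at this
      exact mul_inv_eq_iff_eq_mul.1 this
  have hge : ∀ y : H, Nat.card G ≤ cH y * (S y).card := by
    intro y
    set C := Subgroup.centralizer ({(y : G)} : Set G)
    let U : Finset C := Finset.univ.filter fun u => (u : G) ^ m = 1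
    have hU : ∀ u, u ∈ U ↔ (u : G) ^ m = 1 := fun u => by simp [U]
    have h1 := hk.card_centralizer_mul_sum_section (hyn y y.2) (fun _ => 1)
      (fun _ _ => rfl) (S y) (fun x => by simp [S]) U hU
    simp only [Finset.sum_const, nsmul_one] at h1
    have h2 : Nat.card C * (S y).card = Nat.card G * U.card := by exact_mod_cast h1
    set d := Nat.gcd (Nat.card C) m
    have hcopd : Nat.card C = d * Nat.gcd (Nat.card C) n := by
      rw [← Nat.Coprime.gcd_mul _ hk.coprime, ← hk.card_eq]
      exact (Nat.gcd_eq_left C.card_subgroup_dvd_card).symm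
    have hdpos : 0 < d := Nat.gcd_pos_of_pos_left _ Nat.card_pos
    have hgn : 0 < Nat.gcd (Nat.card C) n := Nat.gcd_pos_of_pos_left _ Nat.card_pos
    have hdiv : Nat.card C / d = Nat.gcd (Nat.card C) n := by
      conv_lhs => rw [hcopd]
      exact Nat.mul_div_cancel_left _ hdpos
    have hUd : ∀ u : C, u ∈ U ↔ u ^ d = 1 := by
      intro u
      rw [hU, ← orderOf_dvd_iff_pow_eq_one, ← orderOf_dvd_iff_pow_eq_one, Nat.dvd_gcd_iff,
        Subgroup.orderOf_coe]
      exact ⟨fun h => ⟨orderOf_dvd_natCard u, h⟩, fun h => h.2⟩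
    have hcc : Nat.Coprime d (Nat.card C / d) := by
      rw [hdiv]
      exact (hk.coprime.coprime_dvd_left (Nat.gcd_dvd_right _ _)).coprime_dvd_right
        (Nat.gcd_dvd_right _ _)
    have hint := isIntegral_sum_pow_div (G := C) (Nat.gcd_dvd_left _ _) hcc
      1 (Subgroup.center C).one_mem (Chars.isCharacter_of_isIrrCharacter Chars.isIrrCharacter_one)
      U hUd
    simp only [Finset.sum_const, nsmul_one] at hint
    have hdU : d ∣ U.card := Chars.dvd_of_isIntegral_div hdpos.ne' hint
    have hUpos : 0 < U.card := Finset.card_pos.2 ⟨1, by simp [U]⟩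
    have hle : d ≤ U.card := Nat.le_of_dvd hUpos hdU
    rw [← hcH, card_centralizer_inf_eq_gcd H hHall hfus helem y.2]
    rw [hcopd, mul_assoc] at h2
    nlinarith [Nat.mul_le_mul_left (Nat.card G) hle]
  have hfib : ∀ F : H → ℂ, ∑ x : G, ∑ a : H, F (a * hh x * a⁻¹) =
      ∑ y : H, F y * ((cH y * (S y).card : ℕ) : ℂ) := by
    intro F
    have hinner : ∀ x, ∑ a : H, F (a * hh x * a⁻¹) =
        ∑ y : H, if x ∈ S y then F y * (cH y : ℂ) else 0 := by
      intro x
      rw [← Finset.sum_fiberwise Finset.univ (fun a : H => a * hh x * a⁻¹)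
        (fun a => F (a * hh x * a⁻¹))]
      refine Finset.sum_congr rfl fun y _ => ?_
      split_ifs with hx
      · rw [Finset.sum_congr rfl fun a ha => by rw [(Finset.mem_filter.1 ha).2], Finset.sum_const,
          nsmul_eq_mul, mul_comm]
        congr 2
        obtain ⟨b, hb⟩ := isConj_iff.1 (hHconj y x (Finset.mem_filter.1 hx).2)
        refine Finset.card_bij' (fun a _ => a * b⁻¹) (fun a _ => a * b) ?_ ?_ ?_ ?_
        · intro a ha
          refine Finset.mem_filter.2 ⟨Finset.mem_univ _, ?_⟩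
          conv_rhs => rw [← (Finset.mem_filter.1 ha).2]
          rw [← hb]; group
        · intro a ha
          refine Finset.mem_filter.2 ⟨Finset.mem_univ _, ?_⟩
          conv_rhs => rw [← (Finset.mem_filter.1 ha).2, ← hb]
          group
        · intro a _; simp
        · intro a _; simp
      · refine Finset.sum_eq_zero fun a ha => absurd ?_ hx
        refine Finset.mem_filter.2 ⟨Finset.mem_univ _, ?_⟩
        have := congrArg Subtype.val (Finset.mem_filter.1 ha).2
        push_cast at this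
        exact (hhh x).trans (isConj_iff.2 ⟨a, this⟩)
    rw [Finset.sum_congr rfl fun x _ => hinner x, Finset.sum_comm]
    refine Finset.sum_congr rfl fun y _ => ?_
    rw [Finset.sum_ite_mem, Finset.univ_inter, Finset.sum_const, nsmul_eq_mul]
    push_cast
    ring
  have heq : ∀ y : H, cH y * (S y).card = Nat.card G := by
    have h1 := hfib (fun _ => 1)
    simp only [Finset.sum_const, Finset.card_univ, nsmul_eq_mul, one_mul, mul_one,
      Fintype.card_eq_nat_card] at h1
    have h2 : Nat.card G * n = ∑ y : H, cH y * (S y).card := by exact_mod_cast h1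
    have h3 : ∑ _y : H, Nat.card G = ∑ y : H, cH y * (S y).card := by
      rw [← h2, Finset.sum_const, Finset.card_univ, smul_eq_mul, ← Nat.card_eq_fintype_card,
        mul_comm]
    exact fun y => ((Finset.sum_eq_sum_iff_of_le fun y _ => hge y).1 h3 y (Finset.mem_univ y)).symm
  -- characters
  let θ : Cfsg.IrrCharacter H → G → ℂ := fun l x => (l : H → ℂ) (hh x)
  have hθclass : ∀ l, Cfsg.IsClassFunction G (θ l) := by
    intro l x y
    refine Chars.isClassFunction_apply_eq (Chars.irr_isClassFunction l) (hHconj _ _ ?_)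
    refine IsConj.trans ?_ (hhh (y * x * y⁻¹))
    rw [_root_.conj_pow]
    exact isConj_iff.2 ⟨y, rfl⟩
  have hθgen : ∀ l, Cfsg.IsGeneralizedCharacter G (θ l) := by
    intro l
    refine isGeneralizedCharacter_of_elementary (hθclass l) fun E p hp hE => ?_
    obtain ⟨f, hf⟩ := exists_powHom_of_isElementary hk hp E hE
    let R : Subgroup G := f.range.map E.subtype
    have hRn : Nat.card R ∣ n := by
      have h1 : Nat.card R ∣ m * n := hk.card_eq ▸ R.card_subgroup_dvd_card
      refine Nat.Coprime.dvd_of_dvd_mul_left ?_ h1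
      refine Nat.coprime_of_dvd fun q hq hq1 hq2 => ?_
      have := Fact.mk hq
      obtain ⟨r, hr⟩ := exists_prime_orderOf_dvd_card' q hq1
      obtain ⟨_, ⟨e, rfl⟩, hr2⟩ := r.2
      have hrn : (r : G) ^ n = 1 := by
        rw [← hr2, hf, Subgroup.coe_subtype, Subgroup.coe_pow]
        exact hk.pow_n _
      have h3 : q ∣ n := by
        rw [← hr, ← Subgroup.orderOf_coe]
        exact orderOf_dvd_of_pow_eq_one hrn
      exact hq.not_dvd_one (hk.coprime ▸ Nat.dvd_gcd hq2 h3)
    obtain ⟨g, hg⟩ := helem R p hp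
      (IsElementary.mono hp hE (Subgroup.map_subtype_le _)) hRn
    let F : E →* H := ((MulAut.conj g).toMonoidHom.comp (E.subtype.comp f)).codRestrict H
      fun e => hg ⟨_, ⟨_, ⟨e, rfl⟩, rfl⟩, rfl⟩
    have h2 : (fun e : E => θ l e) = fun e : E => (l : H → ℂ) (F e) := by
      funext e
      refine Chars.isClassFunction_apply_eq (Chars.irr_isClassFunction l) (hHconj _ _ ?_).symm
      refine isConj_iff.2 ⟨g, ?_⟩
      change g * (e : G) ^ k * g⁻¹ = g * ((f e : E) : G) * g⁻¹
      rw [hf, Subgroup.coe_pow]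
    rw [h2]
    exact Chars.isGeneralizedCharacter_of_isCharacter
      (Chars.isCharacter_comp F (Chars.irr_isCharacter l))
  have hhh1 : hh 1 = 1 := by
    have h := hhh 1
    rw [one_pow, isConj_one_right] at h
    exact Subtype.ext h
  have hθirr : ∀ l, Cfsg.IsIrrCharacter G (θ l) := by
    intro l
    have hnorm : Cfsg.classInner (θ l) (θ l) = 1 := by
      have h1 := hfib fun y => (l : H → ℂ) y * conj ((l : H → ℂ) y)
      simp only [heq, ← Finset.sum_mul] at h1
      have h2 : ∀ x (a : H), (l : H → ℂ) (a * hh x * a⁻¹) * conj ((l : H → ℂ) (a * hh x * a⁻¹)) =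
          θ l x * conj (θ l x) := fun x a => by
        rw [Chars.irr_isClassFunction l (hh x) a]
      rw [Finset.sum_congr rfl fun x _ => Finset.sum_congr rfl fun a _ => h2 x a] at h1
      simp only [Finset.sum_const, Finset.card_univ, nsmul_eq_mul, Fintype.card_eq_nat_card] at h1
      rw [← Finset.mul_sum] at h1
      have h3 := Chars.classInner_irr_self l
      rw [Cfsg.classInner, inv_mul_eq_one₀ Chars.natCard_ne_zero] at h3
      rw [← h3] at h1
      rw [Cfsg.classInner, inv_mul_eq_one₀ Chars.natCard_ne_zero]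
      exact (mul_left_cancel₀ Chars.natCard_ne_zero h1).symm
    rcases Chars.isGeneralizedCharacter_norm_one (hθgen l) hnorm with h | h
    · exact h
    · exfalso
      obtain ⟨d, hdpos, hd⟩ := Chars.isIrrCharacter_exists_degree_pos h
      obtain ⟨e, hepos, he⟩ := Chars.isIrrCharacter_exists_degree_pos l.2
      rw [Pi.neg_apply, show θ l 1 = (l : H → ℂ) (hh 1) from rfl, hhh1, he] at hd
      have h4 : -((e : ℤ)) = (d : ℤ) := by exact_mod_cast hd
      omega
  have hKiff : ∀ x : G, (∀ l, θ l x = θ l 1) ↔ x ^ k = 1 := by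
    intro x
    constructor
    · intro h
      have h1 : IsConj (hh x) (hh 1) := Chars.isConj_iff_irr.2 fun l => h l
      rw [hhh1, isConj_one_left] at h1
      have h2 := hhh x
      rw [h1, OneMemClass.coe_one, isConj_one_left] at h2
      exact h2
    · intro h l
      refine Chars.isClassFunction_apply_eq (Chars.irr_isClassFunction l) ?_
      rw [hhh1, isConj_one_right]
      have h2 := hhh x
      rw [h, isConj_one_right] at h2
      exact Subtype.ext h2
  have hrep : ∀ l, ∃ (d : ℕ) (ρ : Representation ℂ G (Fin d → ℂ)), ρ.character = θ l := fun l =>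
    Chars.isCharacter_of_isIrrCharacter (hθirr l)
  choose d ρ hρ using hrep
  let K : Subgroup G := ⨅ l, MonoidHom.ker (ρ l)
  have hKmem : ∀ x, x ∈ K ↔ x ^ k = 1 := by
    intro x
    rw [← hKiff, Subgroup.mem_iInf]
    refine forall_congr' fun l => ?_
    rw [MonoidHom.mem_ker, Chars.rep_eq_one_iff, hρ]
  have hKn : K.Normal := ⟨fun x hx g => by
    rw [hKmem] at hx ⊢
    rw [_root_.conj_pow, hx]; group⟩
  have hdisj : K ⊓ H = ⊥ := by
    rw [eq_bot_iff]
    rintro x ⟨hxK, hxH⟩
    rw [Subgroup.mem_bot, ← hk.pow_eq_self (hyn x hxH)]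
    exact (hKmem x).1 hxK
  refine ⟨K, hKn, ?_, hdisj⟩
  have hKcard : Nat.card K = m := by
    have h1 := heq 1
    have h2 : cH 1 = n := by
      simp [cH, hndef]
    have h3 : (S 1).card = Nat.card K := by
      rw [← Fintype.card_coe, ← Nat.card_eq_fintype_card]
      refine Nat.card_congr (Equiv.subtypeEquivRight fun x => ?_)
      rw [hKmem]
      simp [S, isConj_one_right]
    rw [h2, h3, hk.card_eq, mul_comm m n] at h1
    exact Nat.eq_of_mul_eq_mul_left Nat.card_pos h1
  exact (Subgroup.isComplement'_of_card_mul_and_disjoint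
    (by rw [hKcard, hk.card_eq]) (disjoint_iff.2 hdisj)).sup_eq_top

end Cfsg.Agent.Lib.BrauerInd
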